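import Mathlib

/-!
# S4874, X1: the dihedral group of order 8 as a subgroup of index 2

`D ≅ D₈`, `w` normalises `D`, `w² ∈ D`, `w ∉ D`: the coset `wD` contains two elements which are not conjugate since one of
them satisfies `x² = 1` or `x⁴ = 1` and the other does not.
-/

set_option autoImplicit false

open Subgroup

namespace Cfsg.Agent.H296.Five

/-- endomorphisms of the dihedral group of order 8 -/
def af (a b : ZMod 4) : DihedralGroup 4 → DihedralGroup 4
  | .r i => .r (a * i)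
  | .sr i => .sr (a * i + b)

theorem sq_ne : ∀ x : DihedralGroup 4, x * x ≠ 1 → x = .r 1 ∨ x = .r 3 := by decide

theorem not_rot : ∀ (a : ZMod 4) (x y : DihedralGroup 4), x = .r 1 ∨ x = .r 3 → y = .r a → y * x = x * y := by
  rintro a x y (rfl | rfl) rfl <;> simp [add_comm]

theorem exists_af (α : DihedralGroup 4 →* DihedralGroup 4) (hα : Function.Injective α) :
    ∃ a b : ZMod 4, (a = 1 ∨ a = 3) ∧ ∀ x, α x = af a b x := by
  have h1 : α (.r 1) * α (.r 1) ≠ 1 := by
    rw [← map_mul]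
    intro h
    have h2 := hα (h.trans (map_one α).symm)
    exact absurd h2 (by decide)
  have h3 : ∃ a : ZMod 4, (a = 1 ∨ a = 3) ∧ α (.r 1) = .r a := by
    rcases sq_ne _ h1 with h | h
    · exact ⟨1, Or.inl rfl, h⟩
    · exact ⟨3, Or.inr rfl, h⟩
  obtain ⟨a, ha, h4⟩ := h3
  have h5 : ∃ b : ZMod 4, α (.sr 0) = .sr b := by
    rcases hb : α (.sr 0) with c | b
    · exfalso
      have h6 := not_rot c (α (.r 1)) (α (.sr 0)) (sq_ne _ h1) hb
      rw [← map_mul, ← map_mul] at h6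
      exact absurd (hα h6) (by decide)
    · exact ⟨b, rfl⟩
  obtain ⟨b, h5⟩ := h5
  have h6 : ∀ i : ZMod 4, α (.r i) = .r (a * i) := by
    intro i
    have h7 : (DihedralGroup.r i : DihedralGroup 4) = (.r 1) ^ i.val := by
      rw [DihedralGroup.r_one_pow, ZMod.natCast_zmod_val]
    rw [h7, map_pow, h4, DihedralGroup.r_pow, ZMod.natCast_zmod_val]
  refine ⟨a, b, ha, fun x => ?_⟩
  rcases x with i | i
  · exact h6 i
  · have h7 : (DihedralGroup.sr i : DihedralGroup 4) = .sr 0 * .r i := by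
      rw [DihedralGroup.sr_mul_r, zero_add]
    calc α (.sr i) = α (.sr 0 * .r i) := by rw [← h7]
      _ = .sr (b + a * i) := by rw [map_mul, h5, h6, DihedralGroup.sr_mul_r]
      _ = .sr (a * i + b) := by rw [add_comm]

set_option maxRecDepth 100000 in
theorem check : ∀ a b : ZMod 4, (a = 1 ∨ a = 3) → ∀ d : DihedralGroup 4, af a b d = d →
    (∀ x, af a b (af a b x) = d * x * d⁻¹) → ∃ e₁ e₂ : DihedralGroup 4,
      ((af a b e₁ * d * e₁ = 1 ∧ af a b e₂ * d * e₂ ≠ 1) ∨
        ((af a b e₁ * d * e₁) ^ 2 = 1 ∧ (af a b e₂ * d * e₂) ^ 2 ≠ 1)) := by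
  decide

/-- the group theoretic form -/
theorem exists_pair {G : Type*} [Group G] {D : Subgroup G} (ε : D ≃* DihedralGroup 4) {w : G}
    (hw : ∀ x ∈ D, w * x * w⁻¹ ∈ D) (hw2 : w * w ∈ D) :
    ∃ e₁ ∈ D, ∃ e₂ ∈ D, ((w * e₁) ^ 2 = 1 ∧ (w * e₂) ^ 2 ≠ 1) ∨ ((w * e₁) ^ 4 = 1 ∧ (w * e₂) ^ 4 ≠ 1) := by
  let α : DihedralGroup 4 →* DihedralGroup 4 :=
    { toFun := fun x => ε ⟨w * (ε.symm x : D) * w⁻¹, hw _ (ε.symm x).2⟩
      map_one' := by
        rw [← map_one ε]
        congr 1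
        exact Subtype.ext (by simp)
      map_mul' := fun x y => by
        rw [← map_mul ε]
        congr 1
        refine Subtype.ext ?_
        simp only [map_mul, Subgroup.coe_mul]
        group }
  have hα : Function.Injective α := by
    intro x y h
    have h1 := congrArg Subtype.val (ε.injective h)
    have h2 : ((ε.symm x : D) : G) = (ε.symm y : D) := by
      simpa using h1
    exact ε.symm.injective (Subtype.ext h2)
  obtain ⟨a, b, ha, h⟩ := exists_af α hα
  have hval : ∀ x : D, ((ε.symm (α (ε x)) : D) : G) = w * x * w⁻¹ := by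
    intro x
    show ((ε.symm (ε ⟨w * (ε.symm (ε x) : D) * w⁻¹, _⟩) : D) : G) = _
    rw [ε.symm_apply_apply]
    simp
  let d : DihedralGroup 4 := ε ⟨w * w, hw2⟩
  have hd : af a b d = d := by
    rw [← h]
    apply ε.symm.injective
    apply Subtype.ext
    rw [hval, ε.symm_apply_apply]
    group
  have hsq : ∀ x, af a b (af a b x) = d * x * d⁻¹ := by
    intro x
    rw [← h, ← h]
    obtain ⟨y, rfl⟩ := ε.surjective x
    apply ε.symm.injective
    apply Subtype.ext
    have h1 : α (ε y) = ε (ε.symm (α (ε y))) := (ε.apply_symm_apply _).symm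
    rw [h1, hval, hval, map_mul, map_mul, map_inv, ε.symm_apply_apply, ε.symm_apply_apply]
    simp only [Subgroup.coe_mul, Subgroup.coe_inv]
    group
  obtain ⟨e₁, e₂, he⟩ := check a b ha d hd hsq
  have hs : ∀ e : DihedralGroup 4, (w * (ε.symm e : D)) ^ 2 = ((ε.symm (af a b e * d * e) : D) : G) := by
    intro e
    rw [← h]
    obtain ⟨y, rfl⟩ := ε.surjective e
    rw [map_mul, map_mul, Subgroup.coe_mul, Subgroup.coe_mul, hval, ε.symm_apply_apply, ε.symm_apply_apply, pow_two]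
    group
  have hs1 : ∀ e : DihedralGroup 4, (w * (ε.symm e : D)) ^ 2 = 1 ↔ af a b e * d * e = 1 := by
    intro e
    rw [hs e, OneMemClass.coe_eq_one, map_eq_one_iff ε.symm ε.symm.injective]
  have hs2 : ∀ e : DihedralGroup 4, (w * (ε.symm e : D)) ^ 4 = 1 ↔ (af a b e * d * e) ^ 2 = 1 := by
    intro e
    rw [pow_mul (w * (ε.symm e : D)) 2 2, hs e, ← Subgroup.coe_pow, OneMemClass.coe_eq_one, ← map_pow,
      map_eq_one_iff ε.symm ε.symm.injective]
  refine ⟨ε.symm e₁, (ε.symm e₁).2, ε.symm e₂, (ε.symm e₂).2, ?_⟩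
  rcases he with ⟨h1, h2⟩ | ⟨h1, h2⟩
  · exact Or.inl ⟨(hs1 _).2 h1, fun h3 => h2 ((hs1 _).1 h3)⟩
  · exact Or.inr ⟨(hs2 _).2 h1, fun h3 => h2 ((hs2 _).1 h3)⟩

end Cfsg.Agent.H296.Five
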